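import Cfsg.Agent.H691.L34.Def
import Cfsg.Agent.H943.RepAdd

/-!
# S5917, part I: `simp_cases` (from `simp_B`, `simp_16`) and `PL` (the dimensions of every module) (helper118, rows M3)
-/

set_option autoImplicit false
set_option linter.unusedSectionVars false

namespace Cfsg.Agent.H118.L34

open Matrix Cfsg.Agent.H691.L34
open Cfsg.Agent.H943.RepAdd (quotRep)

/-- the statement of `simp_B` -/
def SimpB (F : Type) [Field F] [Fintype F] : Prop :=
  ∀ {V : Type} [AddCommGroup V] [Module (ZMod 2) V] [Module.Finite (ZMod 2) V] {ρ : Representation (ZMod 2) (G3 F) V},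
    CT ρ → ∀ {W : Submodule (ZMod 2) V}, Simp ρ W → ∀ {w : V}, w ∈ W → w ≠ 0 →
    (∀ g : G3 F, g.1 1 0 = 0 → g.1 2 0 = 0 → g.1 2 1 = 0 → ρ g w = w) →
    (∀ v ∈ W, ∀ g, ρ g v = v) ∨ IsNine ρ false W ∨ IsNine ρ true W ∨ Is64 ρ W

/-- the statement of `simp_16` -/
def Simp16 (F : Type) [Field F] [Fintype F] : Prop :=
  ∀ {V : Type} [AddCommGroup V] [Module (ZMod 2) V] [Module.Finite (ZMod 2) V] {ρ : Representation (ZMod 2) (G3 F) V},
    CT ρ → ∀ {W : Submodule (ZMod 2) V}, Simp ρ W →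
    (∀ w ∈ W, (∀ g : G3 F, g.1 1 0 = 0 → g.1 2 0 = 0 → g.1 2 1 = 0 → ρ g w = w) → w = 0) → Is16 ρ W

/-- the statement of `simp_cases` -/
def SimpCases (F : Type) [Field F] [Fintype F] : Prop :=
  ∀ {V : Type} [AddCommGroup V] [Module (ZMod 2) V] [Module.Finite (ZMod 2) V] {ρ : Representation (ZMod 2) (G3 F) V},
    CT ρ → ∀ {W : Submodule (ZMod 2) V}, Simp ρ W →
    (∀ v ∈ W, ∀ g, ρ g v = v) ∨ IsNine ρ false W ∨ IsNine ρ true W ∨ Is16 ρ W ∨ Is64 ρ W

/-- the statement of `nine_dims` -/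
def NineDims (F : Type) [Field F] [Fintype F] : Prop :=
  ∀ {V : Type} [AddCommGroup V] [Module (ZMod 2) V] [Module.Finite (ZMod 2) V] {ρ : Representation (ZMod 2) (G3 F) V}
    {b : Bool} {W : Submodule (ZMod 2) V}, IsNine ρ b W → Dims ρ W 9 3 1 0

/-- **`simp_cases` from `simp_B` and `simp_16`** -/
theorem simpCases_of {F : Type} [Field F] [Fintype F] (h1 : SimpB F) (h2 : Simp16 F) : SimpCases F := by
  intro V _ _ _ ρ hc W hW
  by_cases h : ∃ w ∈ W, w ≠ 0 ∧ ∀ g : G3 F, g.1 1 0 = 0 → g.1 2 0 = 0 → g.1 2 1 = 0 → ρ g w = w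
  · obtain ⟨w, hw, hw0, hB⟩ := h
    rcases h1 hc hW hw hw0 hB with h | h | h | h
    · exact Or.inl h
    · exact Or.inr (Or.inl h)
    · exact Or.inr (Or.inr (Or.inl h))
    · exact Or.inr (Or.inr (Or.inr (Or.inr h)))
  · refine Or.inr (Or.inr (Or.inr (Or.inl (h2 hc hW fun w hw hB => ?_))))
    by_contra hw0
    exact h ⟨w, hw, hw0, hB⟩

section Add

variable {F : Type} [Field F] {V : Type} [AddCommGroup V] [Module (ZMod 2) V] [Module.Finite (ZMod 2) V]
  {ρ : Representation (ZMod 2) (G3 F) V}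

theorem mem_fx {g : G3 F} {W : Submodule (ZMod 2) V} {x : V} : x ∈ fx ρ g W ↔ x ∈ W ∧ ρ g x = x := by
  unfold fx
  rw [Submodule.mem_inf, LinearMap.mem_ker, LinearMap.sub_apply, LinearMap.id_apply, sub_eq_zero]

/-- the sum over the powers -/
theorem sum_pow_fixed {g : G3 F} {n : ℕ} (hg : g ^ n = 1) (x : V) :
    ρ g (∑ i ∈ Finset.range n, ρ (g ^ i) x) = ∑ i ∈ Finset.range n, ρ (g ^ i) x := by
  rw [map_sum]
  have h1 : ∀ i, ρ g (ρ (g ^ i) x) = ρ (g ^ (i + 1)) x := by
    intro i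
    rw [← Module.End.mul_apply, ← map_mul, ← pow_succ']
  rw [Finset.sum_congr rfl fun i _ => h1 i]
  have h2 := Finset.sum_range_succ (fun i => ρ (g ^ i) x) n
  rw [Finset.sum_range_succ'] at h2
  have h3 : ρ (g ^ n) x = ρ (g ^ 0) x := by rw [hg, pow_zero]
  rw [h3] at h2
  exact add_right_cancel h2

/-- the quotient representation -/
def qr (ρ : Representation (ZMod 2) (G3 F) V) (A : Submodule (ZMod 2) V) (hA : Inv ρ A) :
    Representation (ZMod 2) (G3 F) (V ⧸ A) := quotRep ρ A hA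

theorem qr_mk (ρ : Representation (ZMod 2) (G3 F) V) (A : Submodule (ZMod 2) V) (hA : Inv ρ A) (g : G3 F) (x : V) :
    qr ρ A hA g (A.mkQ x) = A.mkQ (ρ g x) := rfl

/-- **additivity** over a quotient -/
theorem finrank_fx {A B : Submodule (ZMod 2) V} (hA : Inv ρ A) (hB : Inv ρ B) (h : A ≤ B) {g : G3 F} {n : ℕ}
    (hn : Odd n) (hg : g ^ n = 1) :
    Module.finrank (ZMod 2) (fx ρ g B) = Module.finrank (ZMod 2) (fx ρ g A) +
      Module.finrank (ZMod 2) (fx (qr ρ A hA) g (B.map A.mkQ)) := by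
  let f : fx ρ g B →ₗ[ZMod 2] V ⧸ A := A.mkQ.domRestrict (fx ρ g B)
  have hr : LinearMap.range f = fx (qr ρ A hA) g (B.map A.mkQ) := by
    ext y
    constructor
    · rintro ⟨⟨x, hx⟩, rfl⟩
      rw [mem_fx] at hx
      rw [mem_fx]
      refine ⟨⟨x, hx.1, rfl⟩, ?_⟩
      show qr ρ A hA g (A.mkQ x) = A.mkQ x
      rw [qr_mk, hx.2]
    · intro hy
      rw [mem_fx] at hy
      obtain ⟨⟨b, hb, rfl⟩, hy2⟩ := hy
      have hpow : ∀ i : ℕ, A.mkQ (ρ (g ^ i) b) = A.mkQ b := by
        intro i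
        induction i with
        | zero => rw [pow_zero, map_one]; rfl
        | succ i ih =>
          rw [pow_succ', map_mul, Module.End.mul_apply, ← qr_mk ρ A hA, ih, hy2]
      refine ⟨⟨∑ i ∈ Finset.range n, ρ (g ^ i) b, mem_fx.2 ⟨Submodule.sum_mem _ fun i _ => hB _ _ hb,
        sum_pow_fixed hg b⟩⟩, ?_⟩
      show A.mkQ (∑ i ∈ Finset.range n, ρ (g ^ i) b) = A.mkQ b
      rw [map_sum, Finset.sum_congr rfl fun i _ => hpow i, Finset.sum_const, Finset.card_range,
        ← Nat.cast_smul_eq_nsmul (ZMod 2), ZMod.natCast_eq_one_iff_odd.2 hn, one_smul]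
  have hk : Module.finrank (ZMod 2) (LinearMap.ker f) = Module.finrank (ZMod 2) (fx ρ g A) := by
    refine LinearEquiv.finrank_eq (LinearEquiv.ofBijective
      ({ toFun := fun x => ⟨((x : fx ρ g B) : V), ?_⟩, map_add' := fun x y => rfl, map_smul' := fun c x => rfl } :
        LinearMap.ker f →ₗ[ZMod 2] fx ρ g A) ⟨?_, ?_⟩)
    · have h1 : f x = 0 := x.2
      have h2 : A.mkQ ((x : fx ρ g B) : V) = 0 := h1
      rw [Submodule.mkQ_apply, Submodule.Quotient.mk_eq_zero] at h2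
      exact mem_fx.2 ⟨h2, (mem_fx.1 (x : fx ρ g B).2).2⟩
    · intro x y e
      apply Subtype.ext
      apply Subtype.ext
      exact congrArg (fun z => ((z : fx ρ g A) : V)) e
    · rintro ⟨x, hx⟩
      have hx' := mem_fx.1 hx
      refine ⟨⟨⟨x, mem_fx.2 ⟨h hx'.1, hx'.2⟩⟩, ?_⟩, rfl⟩
      show A.mkQ x = 0
      rw [Submodule.mkQ_apply, Submodule.Quotient.mk_eq_zero]
      exact hx'.1
  have h1 := LinearMap.finrank_range_add_finrank_ker f
  rw [hr, hk] at h1
  omega

theorem finrank_map_mkQ {A B : Submodule (ZMod 2) V} (h : A ≤ B) :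
    Module.finrank (ZMod 2) B = Module.finrank (ZMod 2) A + Module.finrank (ZMod 2) (B.map A.mkQ) := by
  let f : B →ₗ[ZMod 2] V ⧸ A := A.mkQ.domRestrict B
  have hr : LinearMap.range f = B.map A.mkQ := by
    ext y
    constructor
    · rintro ⟨⟨x, hx⟩, rfl⟩
      exact ⟨x, hx, rfl⟩
    · rintro ⟨x, hx, rfl⟩
      exact ⟨⟨x, hx⟩, rfl⟩
  have hk : Module.finrank (ZMod 2) (LinearMap.ker f) = Module.finrank (ZMod 2) A := by
    refine LinearEquiv.finrank_eq (LinearEquiv.ofBijective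
      ({ toFun := fun x => ⟨((x : B) : V), ?_⟩, map_add' := fun x y => rfl, map_smul' := fun c x => rfl } :
        LinearMap.ker f →ₗ[ZMod 2] A) ⟨?_, ?_⟩)
    · have h1 : f x = 0 := x.2
      have h2 : A.mkQ ((x : B) : V) = 0 := h1
      rwa [Submodule.mkQ_apply, Submodule.Quotient.mk_eq_zero] at h2
    · intro x y e
      apply Subtype.ext
      apply Subtype.ext
      exact congrArg (fun z => ((z : A) : V)) e
    · rintro ⟨x, hx⟩
      refine ⟨⟨⟨x, h hx⟩, ?_⟩, rfl⟩
      show A.mkQ x = 0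
      rw [Submodule.mkQ_apply, Submodule.Quotient.mk_eq_zero]
      exact hx
  have h1 := LinearMap.finrank_range_add_finrank_ker f
  rw [hr, hk] at h1
  omega

/-- a simple submodule below a nonzero invariant subspace -/
theorem exists_simp {B : Submodule (ZMod 2) V} (hB : Inv ρ B) (h : B ≠ ⊥) : ∃ W ≤ B, Simp ρ W := by
  obtain ⟨W, ⟨h1, h2, h3⟩, hmin⟩ := (wellFounded_lt (α := Submodule (ZMod 2) V)).has_min
    {W : Submodule (ZMod 2) V | W ≤ B ∧ W ≠ ⊥ ∧ Inv ρ W} ⟨B, le_rfl, h, hB⟩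
  refine ⟨W, h1, h3, h2, fun X hX hle => ?_⟩
  by_contra hcon
  push Not at hcon
  exact hmin X ⟨hle.trans h1, hcon.1, hX⟩ (lt_of_le_of_ne hle hcon.2)

theorem inv_quot {A : Submodule (ZMod 2) V} (hA : Inv ρ A) {B : Submodule (ZMod 2) V} (hB : Inv ρ B) :
    Inv (qr ρ A hA) (B.map A.mkQ) := by
  rintro g _ ⟨x, hx, rfl⟩
  exact ⟨ρ g x, hB g x hx, (qr_mk ρ A hA g x).symm⟩

theorem inv_comap {A : Submodule (ZMod 2) V} (hA : Inv ρ A) {W : Submodule (ZMod 2) (V ⧸ A)}
    (hW : Inv (qr ρ A hA) W) : Inv ρ (W.comap A.mkQ) := by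
  intro g x hx
  rw [Submodule.mem_comap] at hx ⊢
  rw [← qr_mk ρ A hA]
  exact hW g _ hx

end Add

section PL

variable {F : Type} [Field F] [Fintype F]

/-- a simple module with trivial action is a line -/
theorem triv_dims {V : Type} [AddCommGroup V] [Module (ZMod 2) V] [Module.Finite (ZMod 2) V]
    {ρ : Representation (ZMod 2) (G3 F) V} {W : Submodule (ZMod 2) V} (hW : Simp ρ W)
    (ht : ∀ v ∈ W, ∀ g, ρ g v = v) : Dims ρ W 1 1 1 1 := by
  have h1 : Module.finrank (ZMod 2) W = 1 := by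
    obtain ⟨w, hw, hw0⟩ := Submodule.exists_mem_ne_zero_of_ne_bot hW.2.1
    have h := hW.2.2 (Submodule.span (ZMod 2) {w}) (fun g x hx => by
      obtain ⟨c, rfl⟩ := Submodule.mem_span_singleton.1 hx
      rw [map_smul, ht w hw g]
      exact Submodule.smul_mem _ _ (Submodule.mem_span_singleton_self w))
      ((Submodule.span_singleton_le_iff_mem w W).2 hw)
    rcases h with h | h
    · exact absurd (Submodule.span_singleton_eq_bot.1 h) hw0
    · rw [← h]
      exact finrank_span_singleton hw0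
  have h2 : ∀ g, fx ρ g W = W := by
    intro g
    ext x
    rw [mem_fx]
    exact ⟨fun h => h.1, fun h => ⟨h, ht x h g⟩⟩
  refine ⟨h1, fun g _ _ => ?_, fun g _ => ?_, fun g _ => ?_⟩ <;> rw [h2, h1]

/-- the dimensions of the simple modules -/
theorem simp_dims (hs : SimpCases F) (h9 : NineDims F) {V : Type} [AddCommGroup V] [Module (ZMod 2) V]
    [Module.Finite (ZMod 2) V] {ρ : Representation (ZMod 2) (G3 F) V} (hc : CT ρ) {W : Submodule (ZMod 2) V}
    (hW : Simp ρ W) : ∃ a b c d : ℕ, Dims ρ W (a + 16 * b + 9 * c + 64 * d) (a + 4 * b + 3 * c + 22 * d)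
      (a + 4 * b + c + 12 * d) (a + 4 * b + 10 * d) := by
  rcases hs hc hW with h | h | h | h | h
  · exact ⟨1, 0, 0, 0, triv_dims hW h⟩
  · exact ⟨0, 0, 1, 0, h9 h⟩
  · exact ⟨0, 0, 1, 0, h9 h⟩
  · exact ⟨0, 1, 0, 0, h⟩
  · exact ⟨0, 0, 0, 1, h.1⟩

/-- **`PL`** from `simp_cases` and `nine_dims` -/
theorem PL_of (hs : SimpCases F) (h9 : NineDims F) {V : Type} [AddCommGroup V] [Module (ZMod 2) V]
    [Module.Finite (ZMod 2) V] {ρ : Representation (ZMod 2) (G3 F) V} (hc : CT ρ) {A B : Submodule (ZMod 2) V}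
    (hA : Inv ρ A) (hB : Inv ρ B) (h : A ≤ B) :
    ∃ a b c d : ℕ, Module.finrank (ZMod 2) B = Module.finrank (ZMod 2) A + (a + 16 * b + 9 * c + 64 * d) ∧
      (∀ g : G3 F, orderOf g = 3 → g ∉ Subgroup.center (G3 F) → Module.finrank (ZMod 2) (fx ρ g B) =
        Module.finrank (ZMod 2) (fx ρ g A) + (a + 4 * b + 3 * c + 22 * d)) ∧
      (∀ g : G3 F, orderOf g = 5 → Module.finrank (ZMod 2) (fx ρ g B) =
        Module.finrank (ZMod 2) (fx ρ g A) + (a + 4 * b + c + 12 * d)) ∧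
      ∀ g : G3 F, orderOf g = 7 → Module.finrank (ZMod 2) (fx ρ g B) =
        Module.finrank (ZMod 2) (fx ρ g A) + (a + 4 * b + 10 * d) := by
  obtain ⟨m, hm⟩ : ∃ m, Module.finrank (ZMod 2) B = Module.finrank (ZMod 2) A + m :=
    ⟨_, (Nat.add_sub_cancel' (Submodule.finrank_mono h)).symm⟩
  induction m using Nat.strong_induction_on generalizing A with
  | _ m ih =>
    rcases eq_or_ne A B with rfl | hne
    · refine ⟨0, 0, 0, 0, ?_, fun g _ _ => ?_, fun g _ => ?_, fun g _ => ?_⟩ <;> simp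
    · -- a simple submodule of the quotient
      have hq : B.map A.mkQ ≠ ⊥ := by
        intro h0
        apply hne
        apply le_antisymm h
        intro x hx
        have h1 : A.mkQ x ∈ B.map A.mkQ := ⟨x, hx, rfl⟩
        rw [h0, Submodule.mem_bot, Submodule.mkQ_apply, Submodule.Quotient.mk_eq_zero] at h1
        exact h1
      obtain ⟨W, hWB, hW⟩ := exists_simp (inv_quot hA hB) hq
      have hcq : CT (qr ρ A hA) := by
        intro c hc' v
        obtain ⟨x, rfl⟩ := A.mkQ_surjective v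
        rw [qr_mk, hc c hc']
      obtain ⟨a, b, c, d, hd⟩ := simp_dims hs h9 hcq hW
      set A' : Submodule (ZMod 2) V := W.comap A.mkQ with hA'
      have hA'i : Inv ρ A' := inv_comap hA hW.1
      have hAA' : A ≤ A' := by
        intro x hx
        rw [hA', Submodule.mem_comap]
        have h1 : A.mkQ x = 0 := by
          rw [Submodule.mkQ_apply, Submodule.Quotient.mk_eq_zero]
          exact hx
        rw [h1]
        exact Submodule.zero_mem _
      have hA'B : A' ≤ B := by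
        intro x hx
        rw [hA', Submodule.mem_comap] at hx
        obtain ⟨y, hy, hxy⟩ := hWB hx
        have h1 : x - y ∈ A := by
          rw [← Submodule.Quotient.mk_eq_zero, ← Submodule.mkQ_apply, map_sub, hxy, sub_self]
        have h2 := B.add_mem (h h1) hy
        rwa [sub_add_cancel] at h2
      have hmapA' : A'.map A.mkQ = W := Submodule.map_comap_eq_of_surjective A.mkQ_surjective W
      have hfr := finrank_map_mkQ hAA'
      rw [hmapA', hd.1] at hfr
      have hpos : 0 < Module.finrank (ZMod 2) W := by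
        rw [Module.finrank_pos_iff]
        exact Submodule.nontrivial_iff_ne_bot.2 hW.2.1
      rw [hd.1] at hpos
      have hm' : ∃ m' < m, Module.finrank (ZMod 2) B = Module.finrank (ZMod 2) A' + m' := by
        have h1 := Submodule.finrank_mono hA'B
        exact ⟨Module.finrank (ZMod 2) B - Module.finrank (ZMod 2) A', by omega, by omega⟩
      obtain ⟨m', hm'lt, hm'⟩ := hm'
      obtain ⟨a', b', c', d', h1, h3, h5, h7⟩ := ih m' hm'lt hA'i hA'B hm'
      refine ⟨a + a', b + b', c + c', d + d', by omega, fun g hg hgc => ?_, fun g hg => ?_, fun g hg => ?_⟩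
      · have e := finrank_fx hA hA'i hAA' (by decide : Odd 3) (orderOf_dvd_iff_pow_eq_one.1 hg.dvd)
        rw [hmapA', hd.2.1 g hg hgc] at e
        have e2 := h3 g hg hgc
        omega
      · have e := finrank_fx hA hA'i hAA' (by decide : Odd 5) (orderOf_dvd_iff_pow_eq_one.1 hg.dvd)
        rw [hmapA', hd.2.2.1 g hg] at e
        have e2 := h5 g hg
        omega
      · have e := finrank_fx hA hA'i hAA' (by decide : Odd 7) (orderOf_dvd_iff_pow_eq_one.1 hg.dvd)
        rw [hmapA', hd.2.2.2 g hg] at e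
        have e2 := h7 g hg
        omega

end PL

end Cfsg.Agent.H118.L34
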